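import Cfsg.Agent.DihSolv.Rotation
import Cfsg.Agent.DihSolv.Central
import Cfsg.Agent.BlkChar.RankBound
import Cfsg.Agent.S4541

/-!
# Bounds for a block with dihedral defect group and a second class of involutions
-/

noncomputable section

set_option autoImplicit false
set_option linter.unusedSectionVars false
set_option linter.style.haveILetI false

namespace Cfsg.Agent.FusionCount

open Cfsg Cfsg.Agent.BrauerPairs Cfsg.Agent.BlkStar Cfsg.Agent.BlkWat Cfsg.FusionSystem
open Cfsg.Agent.FusionSys Cfsg.Agent.BlkChar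
open Cfsg.Agent.BlkChar.Cyclo (cev)
open scoped Classical ComplexConjugate

universe u

/-- For `k = 1` the values of `cev` are rational integers. -/
theorem exists_int_cev (a : ZMod (2 ^ 1) → ℤ) (j : ZMod (2 ^ 1)) : ∃ z : ℤ, cev a j = z := by
  have hs : ∀ x : ZMod (2 ^ 1), ∃ z : ℤ, (ZMod.stdAddChar x : ℂ) = z := by
    intro x
    have h : (ZMod.stdAddChar x : ℂ) ^ (2 ^ 1) = 1 := by
      rw [← AddChar.map_nsmul_eq_pow, nsmul_eq_mul, ZMod.natCast_self, zero_mul,
        AddChar.map_zero_eq_one]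
    have h' : (ZMod.stdAddChar x : ℂ) ^ 2 = 1 := h
    rcases sq_eq_one_iff.1 h' with h | h
    · exact ⟨1, by rw [h]; simp⟩
    · exact ⟨-1, by rw [h]; simp⟩
  choose z hz using hs
  exact ⟨∑ d, a d * z (j * d), by simp [cev, hz]⟩

variable [Fact (Nat.Prime 2)] {M : Ideal AlgInt} [M.IsPrime] [CharP (Block.ResF M) 2]
  {G : Type u} [Group G] [Fintype G] (D : SD 2 M G)

/-- A central involution of the defect group with a subsection of rank one. -/
theorem four_mul_card_le (hD : IsDefectGroup 2 M D.B.1 D.P) {v : D.P}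
    (hv : orderOf (v : G) = 2) (hcen : ∀ d : D.P, d * v = v * d)
    (hrk : ∀ (b : Set (IrrCharacter (Subgroup.centralizer (Subgroup.zpowers (v : G) : Set G))))
      (P' : Subgroup (Subgroup.centralizer (Subgroup.zpowers (v : G) : Set G))),
      IsPBlock M b → IsDefectGroup 2 M b P' → Nonempty (P' ≃* D.P) → blockRank 2 b = 1) :
    4 * Nat.card D.B.1 ≤ Nat.card D.P +
      3 * Nat.card {χ : IrrCharacter G // χ ∈ D.B.1 ∧ blockHeight 2 D.B.1 (χ : G → ℂ) = 0} := by
  have hM := D.isPModular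
  set Q := Subgroup.zpowers (v : G) with hQ
  have hQP : Q ≤ D.P := Subgroup.zpowers_le.2 v.2
  have hPC : D.P ≤ Subgroup.centralizer (Q : Set G) := by
    intro d hd
    rw [hQ, Brauer.centralizer_zpowers_eq, Subgroup.mem_centralizer_singleton_iff]
    exact congrArg Subtype.val (hcen ⟨d, hd⟩)
  obtain ⟨f, hf⟩ := D.exists_pair v
  have hfc : D.F.IsFullyCentralized Q := by
    refine ⟨hQP, fun R _ => ?_⟩
    rw [centralizerIn, centralizerIn, inf_eq_left.2 hPC]
    exact Subgroup.card_le_of_le inf_le_left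
  have hdef := (isFullyCentralized_iff D.isFS hf).1 hfc
  rw [inf_eq_left.2 hPC] at hdef
  haveI := Fintype.ofFinite (Subgroup.centralizer (Q : Set G))
  have hl : blockRank 2 f.1 = 1 := hrk f.1 _ f.2 hdef ⟨Subgroup.subgroupOfEquivOfLe hPC⟩
  have hd : blockDefect 2 f.1 = blockDefect 2 D.B.1 := by
    have h1 := BlockVal.card_defectGroup hM f.2 hdef
    rw [Nat.card_congr (Subgroup.subgroupOfEquivOfLe hPC).toEquiv,
      BlockVal.card_defectGroup hM D.B.2 hD] at h1
    exact (Nat.pow_right_injective le_rfl h1).symm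
  have hind : IsInducedBlock M (Subgroup.centralizer (Q : Set G)) f.1 D.B.1 :=
    (BlockCover.isInducedBlock_iff_pairOf (D.isPGroup.to_le hQP) f D.B).2
      (hf.pairOf_iff.1 D.maxPair.1)
  have hS : Contrib.IsSection 2 1 (v : G) (Subgroup.centralizer (Q : Set G)) := by
    refine ⟨fun g => ?_, orderOf_dvd_iff_pow_eq_one.1 (hv.dvd.trans (pow_one 2).symm.dvd)⟩
    rw [hQ, Brauer.centralizer_zpowers_eq, Subgroup.mem_centralizer_singleton_iff]
  obtain ⟨r, b, he⟩ := RankTwo.exists_basis 2 f.1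
  obtain rfl : r = 1 := (RankTwo.rank_eq he).symm.trans hl
  set a := RankTwo.gramMat he 0 0 with ha
  have hapos : 1 ≤ a := by
    have := RankTwo.gramMat_quad_pos he (n := fun _ => 1) (fun h => by simpa using congrFun h 0)
    simp [← ha] at this
    omega
  choose x hx using fun χ : IrrCharacter G => exists_int_cev (RankTwo.coord' hS he χ 0) 1
  set s := Finset.univ.filter (· ∈ D.B.1) with hs
  obtain ⟨χ₀, hχ₀, h₀⟩ := BlockVal.exists_height_zero (p := 2) (Block.pBlock_nonempty D.B.2)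
  have hcM : ∀ χ, Contrib.cM hS f.1 χ χ₀ 1 = ((x χ * x χ₀ * a : ℤ) : ℂ) := by
    intro χ
    rw [RankTwo.cM_eq_coord hS he, Fin.sum_univ_one, Fin.sum_univ_one, hx, hx, map_intCast, ← ha]
    push_cast
    rfl
  have hodd : ¬ (2 : ℤ) ∣ x χ₀ * x χ₀ * a := by
    intro h
    apply Contrib.cM_not_mem hS hM hind hχ₀ h₀ hχ₀ h₀ 1
    rw [hcM, Block.memLocalIdeal_intCast_iff hM]
    exact_mod_cast h
  have hne : ∀ χ ∈ s, x χ ≠ 0 := by
    intro χ hχ h0
    apply Contrib.cM_ne_zero_major hS hM hind hd (Finset.mem_filter.1 hχ).2 hχ₀ h₀ isUnit_one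
    rw [hcM, h0]
    simp
  have heven : ∀ χ ∈ s, blockHeight 2 D.B.1 (χ : G → ℂ) ≠ 0 → (2 : ℤ) ∣ x χ := by
    intro χ hχ hh
    obtain ⟨h, hh'⟩ := Nat.exists_eq_succ_of_ne_zero hh
    have h1 := Contrib.cM_div_mem hS hM hind.1 hd (Finset.mem_filter.1 hχ).2 χ₀ isUnit_one
    rw [hh', hcM] at h1
    have h2 : MemLocalIdeal M (((2 : ℤ) : ℂ)) :=
      (Block.memLocalIdeal_intCast_iff hM _).2 (by norm_num)
    have h3 := Block.memLocalIdeal_mul_right h2
      ((Block.localRing M).mul_mem (pow_mem (natCast_mem (Block.localRing M) 2) h) h1)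
    have h4 : ((2 : ℤ) : ℂ) * (((2 : ℕ) : ℂ) ^ h *
        (((x χ * x χ₀ * a : ℤ) : ℂ) / ((2 : ℕ) : ℂ) ^ (h + 1))) =
        ((x χ * x χ₀ * a : ℤ) : ℂ) := by
      push_cast
      field_simp
      ring
    rw [h4, Block.memLocalIdeal_intCast_iff hM] at h3
    have h5 : (2 : ℤ) ∣ x χ * x χ₀ * a := by exact_mod_cast h3
    rcases Int.prime_two.dvd_mul.1 h5 with h6 | h6
    · rcases Int.prime_two.dvd_mul.1 h6 with h7 | h7
      · exact h7
      · exact absurd ((h7.mul_right _).mul_right _) hodd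
    · exact absurd (h6.mul_left _) hodd
  have hsum : a * ∑ χ ∈ s, x χ * x χ = 2 ^ blockDefect 2 D.B.1 := by
    have h := RankTwo.sum_pairing hS hM hind he isUnit_one 0 0
    simp only [RankTwo.pairing, Fin.sum_univ_one, map_mul, map_intCast, hx, ← ha, hd] at h
    refine mul_left_cancel₀ (show a ≠ 0 by omega) ?_
    apply Int.cast_injective (α := ℂ)
    push_cast
    rw [mul_comm (a : ℂ) (2 ^ _)]
    push_cast at h
    rw [← h, Finset.mul_sum, Finset.mul_sum]
    exact Finset.sum_congr rfl fun χ _ => by ring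
  have hle : ∑ χ ∈ s, (if blockHeight 2 D.B.1 (χ : G → ℂ) = 0 then (1 : ℤ) else 4) ≤
      ∑ χ ∈ s, x χ * x χ := by
    refine Finset.sum_le_sum fun χ hχ => ?_
    split_ifs with h
    · exact Int.add_one_le_of_lt (mul_self_pos.2 (hne χ hχ))
    · obtain ⟨w, hw⟩ := heven χ hχ h
      have : 0 < w * w := mul_self_pos.2 fun h0 => hne χ hχ (by rw [hw, h0, mul_zero])
      rw [hw]
      nlinarith
  have hxx : ∑ χ ∈ s, x χ * x χ ≤ 2 ^ blockDefect 2 D.B.1 := by
    rw [← hsum]
    exact le_mul_of_one_le_left (Finset.sum_nonneg fun χ _ => mul_self_nonneg (x χ)) hapos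
  rw [Finset.sum_ite, Finset.sum_const, Finset.sum_const] at hle
  have hk0 : (s.filter fun χ : IrrCharacter G => blockHeight 2 D.B.1 (χ : G → ℂ) = 0).card =
      Nat.card {χ : IrrCharacter G // χ ∈ D.B.1 ∧ blockHeight 2 D.B.1 (χ : G → ℂ) = 0} := by
    rw [Nat.card_eq_fintype_card, Fintype.card_subtype, hs, Finset.filter_filter]
  have hk : Nat.card D.B.1 = s.card := by
    rw [Nat.card_eq_fintype_card, Fintype.card_subtype, hs]
  have hsplit := Finset.card_filter_add_card_filter_not (s := s)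
    (p := fun χ : IrrCharacter G => blockHeight 2 D.B.1 (χ : G → ℂ) = 0)
  have hfin := hle.trans hxx
  rw [BlockVal.card_defectGroup hM D.B.2 hD, hk, ← hk0]
  simp only [nsmul_eq_mul, mul_one] at hfin
  have hfin' : ((s.filter fun χ : IrrCharacter G => blockHeight 2 D.B.1 (χ : G → ℂ) = 0).card +
      4 * (s.filter fun χ : IrrCharacter G => ¬ blockHeight 2 D.B.1 (χ : G → ℂ) = 0).card : ℕ)
      ≤ 2 ^ blockDefect 2 D.B.1 := by
    have : (((s.filter fun χ : IrrCharacter G => blockHeight 2 D.B.1 (χ : G → ℂ) = 0).card +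
      4 * (s.filter fun χ : IrrCharacter G => ¬ blockHeight 2 D.B.1 (χ : G → ℂ) = 0).card : ℕ) : ℤ)
      ≤ ((2 ^ blockDefect 2 D.B.1 : ℕ) : ℤ) := by push_cast; linarith
    exact_mod_cast this
  omega

/-- An involution whose conjugates in the defect group all have centralizers of order four. -/
theorem heightZero_le_four (v : D.P) (hv : orderOf (v : G) = 2)
    (hfour : ∀ g : G, ∀ h : g * (v : G) * g⁻¹ ∈ D.P,
      Nat.card {d : D.P // d * (⟨_, h⟩ : D.P) = ⟨_, h⟩ * d} = 4) :
    Nat.card {χ : IrrCharacter G // χ ∈ D.B.1 ∧ blockHeight 2 D.B.1 (χ : G → ℂ) = 0} ≤ 4 := by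
  have hM := D.isPModular
  have hcard : ∀ g : G, ∀ h : g * (v : G) * g⁻¹ ∈ D.P,
      Nat.card (centralizerIn D.P (Subgroup.zpowers (g * (v : G) * g⁻¹))) = 4 := by
    intro g h
    rw [← hfour g h]
    refine Nat.card_congr
      { toFun := fun x => ⟨⟨x.1, x.2.1⟩, ?_⟩
        invFun := fun d => ⟨d.1.1, d.1.2, ?_⟩
        left_inv := fun x => rfl
        right_inv := fun d => rfl }
    · have h2 : (x : G) ∈ Subgroup.centralizer
          ((Subgroup.zpowers (g * (v : G) * g⁻¹) : Subgroup G) : Set G) := x.2.2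
      rw [Brauer.centralizer_zpowers_eq, Subgroup.mem_centralizer_singleton_iff] at h2
      exact Subtype.ext h2
    · rw [Brauer.centralizer_zpowers_eq]
      exact Subgroup.mem_centralizer_singleton_iff.2 (congrArg Subtype.val d.2)
  set Q := Subgroup.zpowers (v : G) with hQ
  have hQP : Q ≤ D.P := Subgroup.zpowers_le.2 v.2
  obtain ⟨f, hf⟩ := D.exists_pair v
  have h4 : Nat.card (centralizerIn D.P Q) = 4 := by
    have := hcard 1 (by simp)
    rwa [show (1 : G) * (v : G) * 1⁻¹ = v by simp] at this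
  have hfc : D.F.IsFullyCentralized Q := by
    refine ⟨hQP, fun R hR => ?_⟩
    obtain ⟨g, b, hb, hb', rfl⟩ := (isConj_iff_exists D.isFS hf).1 hR
    have hb1 : Q.map (MulAut.conj g).toMonoidHom = b.1 := hb.1
    have hmem : g * (v : G) * g⁻¹ ∈ D.P := hb'.le (hb1 ▸ ⟨v, Subgroup.mem_zpowers _, rfl⟩)
    rw [h4, ← hb1, hQ, MonoidHom.map_zpowers]
    exact (hcard g hmem).le
  have hdef := (isFullyCentralized_iff D.isFS hf).1 hfc
  haveI := Fintype.ofFinite (Subgroup.centralizer (Q : Set G))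
  have hc4 : Nat.card ((D.P ⊓ Subgroup.centralizer (Q : Set G)).subgroupOf
      (Subgroup.centralizer (Q : Set G))) = 4 := by
    rw [Nat.card_congr (Subgroup.subgroupOfEquivOfLe inf_le_right).toEquiv]
    exact h4
  have hd2 : blockDefect 2 f.1 = 2 := by
    have h := BlockVal.card_defectGroup hM f.2 hdef
    rw [hc4] at h
    exact (Nat.pow_right_injective le_rfl (show 2 ^ 2 = 2 ^ blockDefect 2 f.1 by rw [← h])).symm
  have hl : blockRank 2 f.1 ≤ 3 := by
    have h1 := Brauer.KleinBlock.card_eq_four hM f.2 hdef hc4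
    have h2 := Brauer.KleinBlock.blockRank_lt_card hM f.2 (p := 2) (by omega)
    omega
  have hind : IsInducedBlock M (Subgroup.centralizer (Q : Set G)) f.1 D.B.1 :=
    (BlockCover.isInducedBlock_iff_pairOf (D.isPGroup.to_le hQP) f D.B).2
      (hf.pairOf_iff.1 D.maxPair.1)
  have hgen : ∀ (C : Subgroup G), C = Subgroup.centralizer ({(v : G)} : Set G) →
      ∀ b : Set (IrrCharacter C), IsInducedBlock M C b D.B.1 → blockRank 2 b ≤ 3 →
      Nat.card {χ : IrrCharacter G // χ ∈ D.B.1 ∧ blockHeight 2 D.B.1 (χ : G → ℂ) = 0} ≤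
        2 ^ blockDefect 2 b := by
    rintro C rfl b hb hb3
    exact (Agent.S4541.result M hM D.B.1 D.B.2 v ⟨1, by rw [hv, pow_one]⟩ b hb).2.2 hb3
  have := hgen _ (Brauer.centralizer_zpowers_eq _) f.1 hind hl
  rw [hd2] at this
  exact this

end Cfsg.Agent.FusionCount
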