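import Cfsg.Agent.DihSolv.Bounds
import Cfsg.Agent.TwoGroups.Recognition
import Cfsg.Agent.BlockCount.CentralQuotient
import Cfsg.Agent.BlockCover.Quotient

/-!
# Semidihedral defect groups and a central involution
-/

noncomputable section

set_option autoImplicit false
set_option linter.unusedSectionVars false
set_option linter.style.haveILetI false

namespace Cfsg.Agent.DihSolv

open Cfsg Cfsg.Agent.BrauerPairs Cfsg.Agent.BlkStar Cfsg.Agent.BlkWat Cfsg.Agent.FusionCount
open scoped Classical

universe u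

/-- The centralizer of a reflection. -/
theorem card_commute_sr {h : ℕ} [NeZero (2 * h)] (hh : h ≠ 0) (i : ZMod (2 * h)) :
    Nat.card {d : DihedralGroup (2 * h) // d * DihedralGroup.sr i = DihedralGroup.sr i * d} = 4 := by
  have h2 : ∀ j : ZMod (2 * h), j + j = 0 ↔ j = 0 ∨ j = (h : ZMod (2 * h)) := by
    intro j
    constructor
    · intro hj
      rw [← ZMod.natCast_zmod_val j, ← Nat.cast_add, ZMod.natCast_eq_zero_iff] at hj
      obtain ⟨c, hc⟩ := hj
      have hlt := ZMod.val_lt j
      have hc2 : c < 2 := by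
        by_contra hcon
        have : 2 * h * 2 ≤ 2 * h * c := Nat.mul_le_mul_left _ (by omega)
        omega
      interval_cases c
      · exact Or.inl ((ZMod.val_eq_zero j).1 (by omega))
      · exact Or.inr (by rw [← ZMod.natCast_zmod_val j, show j.val = h by omega])
    · rintro (rfl | rfl)
      · exact add_zero 0
      · rw [← Nat.cast_add, show h + h = 2 * h by ring, ZMod.natCast_self]
  have hne : (h : ZMod (2 * h)) ≠ 0 := by
    rw [ne_eq, ZMod.natCast_eq_zero_iff]
    exact fun hd => by have := Nat.le_of_dvd (by omega) hd; omega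
  have hset : (Finset.univ.filter fun d : DihedralGroup (2 * h) =>
      d * DihedralGroup.sr i = DihedralGroup.sr i * d) =
      {DihedralGroup.r 0, DihedralGroup.r (h : ZMod (2 * h)), DihedralGroup.sr i,
        DihedralGroup.sr (i + (h : ZMod (2 * h)))} := by
    ext d
    rcases d with j | j
    · simp only [Finset.mem_filter, Finset.mem_univ, true_and, DihedralGroup.r_mul_sr,
        DihedralGroup.sr_mul_r, DihedralGroup.sr.injEq, Finset.mem_insert, Finset.mem_singleton,
        DihedralGroup.r.injEq, reduceCtorEq, or_false]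
      rw [← h2]
      constructor <;> intro e <;> linear_combination -e
    · simp only [Finset.mem_filter, Finset.mem_univ, true_and, DihedralGroup.sr_mul_sr,
        DihedralGroup.r.injEq, Finset.mem_insert, Finset.mem_singleton, DihedralGroup.sr.injEq,
        reduceCtorEq, false_or]
      constructor
      · intro e
        rcases (h2 (j - i)).1 (by linear_combination -e) with e' | e'
        · exact Or.inl (sub_eq_zero.1 e')
        · exact Or.inr (by linear_combination e')
      · intro e
        have := (h2 (j - i)).2 (by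
          rcases e with e | e
          · exact Or.inl (sub_eq_zero.2 e)
          · exact Or.inr (by linear_combination e))
        linear_combination -this
  rw [Nat.card_eq_fintype_card, Fintype.card_subtype, hset]
  rw [Finset.card_insert_of_notMem, Finset.card_insert_of_notMem, Finset.card_insert_of_notMem,
    Finset.card_singleton]
  all_goals simp [hne, Ne.symm hne, DihedralGroup.r.injEq, DihedralGroup.sr.injEq, DihedralGroup.one_def, -DihedralGroup.r_zero]

variable {G : Type u} [Group G] [Fintype G] [Fact (Nat.Prime 2)] {M : Ideal AlgInt}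

/-- Inflation does not increase the rank. -/
theorem finrank_infl_le {Z : Subgroup G} [Z.Normal] (S : Set (IrrCharacter (G ⧸ Z))) :
    Module.finrank ℂ (Submodule.span ℂ ((fun φ : IrrCharacter (G ⧸ Z) =>
      pRegularPart 2 ((Char.irrEquivQuotient Z φ : IrrCharacter G) : G → ℂ)) '' S)) ≤
      blockRank 2 S := by
  let L : (G ⧸ Z → ℂ) →ₗ[ℂ] (G → ℂ) :=
    { toFun := fun f g => if IsPRegular 2 g then f g else 0
      map_add' := fun f f' => by ext g; dsimp only [Pi.add_apply]; split_ifs <;> simp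
      map_smul' := fun c f => by ext g; dsimp only [Pi.smul_apply]; split_ifs <;> simp }
  have himg : (fun φ : IrrCharacter (G ⧸ Z) =>
      pRegularPart 2 ((Char.irrEquivQuotient Z φ : IrrCharacter G) : G → ℂ)) '' S =
      L '' ((fun φ : IrrCharacter (G ⧸ Z) => pRegularPart 2 (φ : G ⧸ Z → ℂ)) '' S) := by
    rw [Set.image_image]
    refine Set.image_congr fun φ _ => funext fun g => ?_
    show (if IsPRegular 2 g then _ else (0 : ℂ)) = if IsPRegular 2 g then _ else 0
    split_ifs with hg
    · rw [Char.irrEquivQuotient_apply, pRegularPart, if_pos]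
      exact fun h => hg (h.trans (orderOf_map_dvd (QuotientGroup.mk' Z) g))
    · rfl
  rw [himg, ← Submodule.map_span]
  exact Submodule.finrank_map_le L _

/-- A dihedral defect group with a reflection fused to no rotation. -/
theorem blockRank_le_two_of_notConj (hM : IsPModular 2 M) {B : Set (IrrCharacter G)}
    (hB : IsPBlock M B) {P : Subgroup G} (hP : IsDefectGroup 2 M B P) {h : ℕ} (hh : 2 ≤ h)
    (e : P ≃* DihedralGroup (2 * h)) {t : G} (htP : t ∈ P) (ht2 : orderOf t = 2)
    (hconj : ∀ g : G,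
      g * t * g⁻¹ ∉ Subgroup.zpowers ((e.symm (DihedralGroup.r 1) : P) : G)) :
    blockRank 2 B ≤ 2 := by
  haveI : M.IsPrime := hM.2.1.isPrime
  haveI := Block.charP_resF hM
  haveI : NeZero (2 * h) := ⟨by omega⟩
  let B' : Blk M G := ⟨B, hB⟩
  obtain ⟨b, hb⟩ := exists_maxPair_of_isDef (S := pairSys M G)
    (isDef_of_isDefectGroup (B := B') hP)
  obtain ⟨F, hF⟩ := exists_blockFS (e := b) ((isMaximalBrauerPair_iff B' ⟨P, b⟩).2 hb)
  let D : SD 2 M G := ⟨B', P, b, F, hM, hF⟩
  have hrot : FusionCount.rot D e = ((e.symm (DihedralGroup.r 1) : P) : G) := rfl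
  -- the central involution
  set v : D.P := e.symm (DihedralGroup.r (h : ZMod (2 * h))) with hv
  have hne : (h : ZMod (2 * h)) ≠ 0 := by
    rw [ne_eq, ZMod.natCast_eq_zero_iff]
    exact fun hd => by have := Nat.le_of_dvd (by omega) hd; omega
  have hhh : (h : ZMod (2 * h)) + (h : ZMod (2 * h)) = 0 := by
    rw [← Nat.cast_add, show h + h = 2 * h by ring, ZMod.natCast_self]
  have hev : e v = DihedralGroup.r (h : ZMod (2 * h)) := e.apply_symm_apply _
  have hv2 : orderOf (v : G) = 2 := by
    rw [Subgroup.orderOf_coe, ← e.orderOf_eq, hev]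
    refine orderOf_eq_prime ?_ fun h0 => hne ?_
    · rw [pow_two, DihedralGroup.r_mul_r, hhh, DihedralGroup.r_zero]
    · exact DihedralGroup.r.inj (h0.trans DihedralGroup.r_zero.symm)
  have hvC : (v : G) ∈ Subgroup.zpowers (rot D e) := mem_zpowers_rot.2 ⟨_, hev⟩
  have hcen : ∀ d : D.P, d * v = v * d := by
    intro d
    apply e.injective
    rw [map_mul, map_mul, hev]
    rcases e d with j | j
    · rw [DihedralGroup.r_mul_r, DihedralGroup.r_mul_r, add_comm]
    · rw [DihedralGroup.sr_mul_r, DihedralGroup.r_mul_sr]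
      congr 1
      linear_combination hhh
  -- the reflection
  set w : D.P := ⟨t, htP⟩ with hw
  have hfour : ∀ g : G, ∀ hg : g * (w : G) * g⁻¹ ∈ D.P,
      Nat.card {d : D.P // d * (⟨_, hg⟩ : D.P) = ⟨_, hg⟩ * d} = 4 := by
    intro g hg
    rcases hx : e ⟨_, hg⟩ with i | i
    · exact absurd (hrot ▸ (mem_zpowers_rot (D := D) (d := ⟨_, hg⟩)).2 ⟨i, hx⟩) (hconj g)
    rw [← card_commute_sr (show h ≠ 0 by omega) i]
    refine Nat.card_congr (e.toEquiv.subtypeEquiv fun d => ?_)
    show _ ↔ e d * _ = _ * e d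
    rw [← hx, ← map_mul, ← map_mul, e.injective.eq_iff]
  -- the upper bound
  have hcardP : Nat.card D.P = 4 * h := by
    rw [Nat.card_congr e.toEquiv, DihedralGroup.nat_card]
    ring
  have hk0 := heightZero_le_four D w ht2 hfour
  have hk := four_mul_card_le D hP hv2 hcen fun c P' hc hP' hiso => by
    obtain ⟨ε⟩ := hiso
    have hvc : (v : G) ∈ Subgroup.centralizer (Subgroup.zpowers (v : G) : Set G) := by
      rw [Brauer.centralizer_zpowers_eq]
      exact Subgroup.mem_centralizer_singleton_iff.2 rfl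
    haveI := Fintype.ofFinite (Subgroup.centralizer (Subgroup.zpowers (v : G) : Set G))
    refine blockRank_eq_one_of_center hM hc hP' (show 4 ≤ 2 * h by omega) (ε.trans e)
      (z := ⟨(v : G), hvc⟩) ?_ ?_
    · refine Subgroup.mem_center_iff.2 fun g => Subtype.ext ?_
      have hg : ∀ a ∈ Subgroup.centralizer (Subgroup.zpowers (v : G) : Set G),
          a ∈ Subgroup.centralizer ({(v : G)} : Set G) := fun a ha => by
        rwa [Brauer.centralizer_zpowers_eq] at ha
      exact Subgroup.mem_centralizer_singleton_iff.1 (hg g g.2)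
    · rw [← Subgroup.orderOf_coe]; exact hv2
  rw [hcardP] at hk
  have hk' : Nat.card D.B.1 ≤ h + 3 := by omega
  -- the lower bound
  set f : D.P → ℝ := fun x =>
    (rkAt 2 (⟨D.P, D.e⟩ : PairIdx M G) (Subgroup.zpowers (x : G)) : ℝ) / ((cls D x).card : ℝ) with hf
  have hsum : (Nat.card D.B.1 : ℝ) = ∑ x, f x := by
    apply Complex.ofReal_injective
    rw [hf]
    push_cast
    exact card_eq_sum_rk D
  have hf0 : ∀ x, 0 ≤ f x := fun x => div_nonneg (Nat.cast_nonneg _) (Nat.cast_nonneg _)
  have hcls : ∀ x : D.P, 1 ≤ ∑ y ∈ cls D x, f y := by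
    intro x
    have hc : (0 : ℝ) < (cls D x).card := Nat.cast_pos.2 (Finset.card_pos.2 ⟨x, self_mem_cls D x⟩)
    calc (1 : ℝ) = ∑ y ∈ cls D x, (1 : ℝ) / ((cls D x).card : ℝ) := by
          rw [Finset.sum_const, nsmul_eq_mul]; field_simp
      _ ≤ _ := Finset.sum_le_sum fun y hy => by
          simp only [hf]
          rw [cls_eq_of_mem D hy]
          gcongr
          exact_mod_cast one_le_rkAt D y
  have hord : ∀ {x y : D.P}, y ∈ cls D x → orderOf (y : G) = orderOf (x : G) := by
    intro x y hy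
    obtain ⟨g, c, ⟨h1, -⟩, -⟩ := (mem_cls D).1 hy
    rw [← (show g * (x : G) * g⁻¹ = (y : G) from h1), ← MulAut.conj_apply, MulEquiv.orderOf_eq]
  set S : Finset D.P :=
    Finset.univ.image (fun i : ZMod (2 * h) => e.symm (DihedralGroup.r i)) \ {1, v} with hS
  have hSord : ∀ x ∈ S, (x : G) ∈ Subgroup.zpowers (rot D e) ∧ 2 < orderOf (x : G) := by
    intro x hx
    simp only [hS, Finset.mem_sdiff, Finset.mem_image, Finset.mem_univ, true_and,
      Finset.mem_insert, Finset.mem_singleton, not_or] at hx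
    obtain ⟨⟨i, rfl⟩, hx1, hxv⟩ := hx
    refine ⟨mem_zpowers_rot.2 ⟨i, e.apply_symm_apply _⟩, ?_⟩
    by_contra hle
    have hpos := orderOf_pos ((e.symm (DihedralGroup.r i) : D.P) : G)
    have hsq : (e.symm (DihedralGroup.r i) : D.P) ^ 2 = 1 := by
      apply orderOf_dvd_iff_pow_eq_one.1
      rw [← Subgroup.orderOf_coe]
      interval_cases hn : orderOf ((e.symm (DihedralGroup.r i) : D.P) : G)
      · exact one_dvd 2
      · exact dvd_rfl
    have hii : i + i = 0 := by
      have := congrArg e hsq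
      rw [map_pow, e.apply_symm_apply, map_one, pow_two, DihedralGroup.r_mul_r,
        DihedralGroup.one_def] at this
      exact DihedralGroup.r.inj this
    rw [← ZMod.natCast_zmod_val i, ← Nat.cast_add, ZMod.natCast_eq_zero_iff] at hii
    obtain ⟨c, hc⟩ := hii
    have hlt := ZMod.val_lt i
    have hc2 : c < 2 := by
      by_contra hcon
      have : 2 * h * 2 ≤ 2 * h * c := Nat.mul_le_mul_left _ (by omega)
      omega
    interval_cases c
    · refine hx1 ?_
      rw [show i = 0 from (ZMod.val_eq_zero i).1 (by omega), DihedralGroup.r_zero, map_one]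
    · refine hxv ?_
      rw [hv, ← ZMod.natCast_zmod_val i, show i.val = h by omega]
  have hScard : 2 * h ≤ S.card + 2 := by
    have h1 := Finset.le_card_sdiff ({1, v} : Finset D.P)
      (Finset.univ.image (fun i : ZMod (2 * h) => e.symm (DihedralGroup.r i)))
    rw [Finset.card_image_of_injective _ (fun i j hij => DihedralGroup.r.inj (e.symm.injective hij)),
      Finset.card_univ, ZMod.card] at h1
    have h2 : ({1, v} : Finset D.P).card ≤ 2 := Finset.card_le_two
    rw [hS]
    omega
  have hSsum : ((h : ℝ) - 1) ≤ ∑ y ∈ S, f y := by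
    calc ((h : ℝ) - 1) ≤ (S.card : ℝ) * (1 / 2) := by
          have : (2 : ℝ) * h ≤ S.card + 2 := by exact_mod_cast hScard
          linarith
      _ = ∑ y ∈ S, (1 / 2 : ℝ) := by rw [Finset.sum_const, nsmul_eq_mul]
      _ ≤ _ := Finset.sum_le_sum fun y hy => by
          obtain ⟨hyC, hy2⟩ := hSord y hy
          have hsub : cls D y ⊆ {y, y⁻¹} := fun z hz => by
            simpa using cls_rot hyC hy2 hz
          have hc2 : (cls D y).card ≤ 2 := (Finset.card_le_card hsub).trans Finset.card_le_two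
          have hc0 : (0 : ℝ) < (cls D y).card :=
            Nat.cast_pos.2 (Finset.card_pos.2 ⟨y, self_mem_cls D y⟩)
          simp only [hf]
          rw [div_le_div_iff₀ two_pos hc0, one_mul]
          have h1 : (1 : ℝ) ≤ (rkAt 2 (⟨D.P, D.e⟩ : PairIdx M G)
              (Subgroup.zpowers (y : G)) : ℝ) := by exact_mod_cast one_le_rkAt D y
          have h2 : ((cls D y).card : ℝ) ≤ 2 := by exact_mod_cast hc2
          linarith
  have hone : (blockRank 2 B : ℝ) = ∑ y ∈ ({1} : Finset D.P), f y := by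
    simp only [Finset.sum_singleton, hf, cls_one, Finset.card_singleton, Nat.cast_one, div_one,
      rkAt_one]
    rfl
  have hd1 : Disjoint (cls D v) (cls D w) := Finset.disjoint_left.2 fun y hy hy' => by
    have hwv : v ∈ cls D w := cls_trans D hy' (cls_symm D hy)
    obtain ⟨g, c, ⟨h1, -⟩, -⟩ := (mem_cls D).1 hwv
    have h1' : g * t * g⁻¹ = (v : G) := h1
    exact hconj g (h1' ▸ hrot ▸ hvC)
  have hd2 : Disjoint (cls D v ∪ cls D w) S := Finset.disjoint_left.2 fun y hy hy' => by
    have h3 := (hSord y hy').2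
    rcases Finset.mem_union.1 hy with hy | hy
    · rw [hord hy, hv2] at h3; omega
    · rw [hord hy, show orderOf (w : G) = 2 from ht2] at h3; omega
  have hd3 : Disjoint ((cls D v ∪ cls D w) ∪ S) {1} := Finset.disjoint_singleton_right.2 fun hy => by
    have h1 : orderOf ((1 : D.P) : G) = 1 := by simp
    rcases Finset.mem_union.1 hy with hy | hy
    · rcases Finset.mem_union.1 hy with hy | hy
      · rw [hord hy, hv2] at h1; omega
      · rw [hord hy, show orderOf (w : G) = 2 from ht2] at h1; omega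
    · have := (hSord _ hy).2
      omega
  have htot : (blockRank 2 B : ℝ) + 2 + ((h : ℝ) - 1) ≤ Nat.card D.B.1 := by
    rw [hsum]
    refine le_trans ?_ (Finset.sum_le_sum_of_subset_of_nonneg
      (Finset.subset_univ ((cls D v ∪ cls D w) ∪ S ∪ {1})) fun y _ _ => hf0 y)
    rw [Finset.sum_union hd3, Finset.sum_union hd2, Finset.sum_union hd1, ← hone]
    linarith [hcls v, hcls w, hSsum]
  have hfin : (blockRank 2 B : ℝ) ≤ 2 := by
    have : (Nat.card D.B.1 : ℝ) ≤ (h : ℝ) + 3 := by exact_mod_cast hk'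
    linarith
  exact_mod_cast hfin

/-- The involution of a cyclic 2-group. -/
theorem eq_pow_of_involution {x w : G} {n : ℕ} (hn : 1 ≤ n) (hx : orderOf x = 2 ^ n)
    (hw : w ∈ Subgroup.zpowers x) (hw2 : orderOf w = 2) : w = x ^ 2 ^ (n - 1) := by
  have hnn : 2 ^ n = 2 * 2 ^ (n - 1) := by rw [← pow_succ']; congr 1; omega
  obtain ⟨i, hi, rfl⟩ := Finset.mem_image.1 (mem_zpowers_iff_mem_range_orderOf.1 hw)
  rw [Finset.mem_range, hx, hnn] at hi
  have h2 : x ^ (i * 2) = 1 := by
    rw [pow_mul]
    exact orderOf_dvd_iff_pow_eq_one.1 hw2.dvd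
  rw [← orderOf_dvd_iff_pow_eq_one, hx, hnn, mul_comm i 2,
    Nat.mul_dvd_mul_iff_left two_pos] at h2
  obtain ⟨c, rfl⟩ := h2
  have hc : c < 2 := by
    by_contra hcon
    have : 2 ^ (n - 1) * 2 ≤ 2 ^ (n - 1) * c := Nat.mul_le_mul_left _ (by omega)
    omega
  interval_cases c
  · rw [mul_zero, pow_zero, orderOf_one] at hw2
    omega
  · rw [mul_one]

/-- With a semidihedral defect group and a central involution the rank is at most two. -/
theorem blockRank_le_two_of_quasiDihedral_center (hM : IsPModular 2 M) {B : Set (IrrCharacter G)}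
    (hB : IsPBlock M B) {D : Subgroup G} (hD : IsDefectGroup 2 M B D) (hq : IsQuasiDihedral D)
    {z : G} (hz : z ∈ Subgroup.center G) (hz2 : orderOf z = 2) : blockRank 2 B ≤ 2 := by
  haveI : M.IsPrime := hM.2.1.isPrime
  have hzD : z ∈ D := mem_defectGroup_of_center hD hz ⟨1, by rw [hz2, pow_one]⟩
  obtain ⟨n, hn, hcard, ⟨x, hxD⟩, ⟨y, hyD⟩, hx, hy, hxy⟩ := hq
  rw [Subgroup.orderOf_mk] at hx hy
  have hxy' : y * x * y⁻¹ = x ^ (2 ^ (n - 1) - 1) := by
    simpa using congrArg Subtype.val hxy
  have h4 : 4 ≤ 2 ^ (n - 1) :=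
    le_trans (by norm_num) (Nat.pow_le_pow_right two_pos (show 2 ≤ n - 1 by omega))
  have hnn : 2 ^ n = 2 * 2 ^ (n - 1) := by rw [← pow_succ']; congr 1; omega
  have hyx : y ∉ Subgroup.zpowers x := by
    intro hy'
    obtain ⟨i, rfl⟩ := Subgroup.mem_zpowers_iff.1 hy'
    rw [((Commute.refl x).zpow_left i).eq, mul_inv_cancel_right] at hxy'
    have h2 := pow_injOn_Iio_orderOf (x := x) (Set.mem_Iio.2 (by omega))
      (Set.mem_Iio.2 (by omega)) ((pow_one x).trans hxy')
    omega
  -- the subgroup of index two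
  have hidx : ∀ d ∈ D, d ∈ Subgroup.zpowers x ∨ d * y ∈ Subgroup.zpowers x := by
    intro d hd
    have hC : (Subgroup.zpowers (⟨x, hxD⟩ : D)).index = 2 := by
      have h := (Subgroup.zpowers (⟨x, hxD⟩ : D)).card_mul_index
      rw [Nat.card_zpowers, Subgroup.orderOf_mk, hx, hcard, pow_succ] at h
      exact Nat.eq_of_mul_eq_mul_left (by positivity) h
    have hmem : ∀ g : D, g ∈ Subgroup.zpowers (⟨x, hxD⟩ : D) ↔ (g : G) ∈ Subgroup.zpowers x := by
      intro g
      constructor
      · rintro ⟨i, rfl⟩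
        exact ⟨i, by simp⟩
      · rintro ⟨i, hi⟩
        exact ⟨i, Subtype.ext (by simpa using hi)⟩
    by_cases hdC : d ∈ Subgroup.zpowers x
    · exact Or.inl hdC
    · refine Or.inr ((hmem (⟨d, hd⟩ * ⟨y, hyD⟩)).1 ?_)
      refine (Subgroup.mul_mem_iff_of_index_two hC).2 ?_
      exact iff_of_false (fun h => hdC ((hmem _).1 h)) (fun h => hyx ((hmem _).1 h))
  -- the central involution lies there
  have hzx : z ∈ Subgroup.zpowers x := by
    rcases hidx z hzD with h | h
    · exact h
    exfalso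
    obtain ⟨i, hi⟩ := Subgroup.mem_zpowers_iff.1 h
    have hy' : y = z⁻¹ * x ^ i := by rw [hi, inv_mul_cancel_left]
    have hc : y * x * y⁻¹ = x := by
      rw [hy', mul_assoc z⁻¹, ((Commute.refl x).zpow_left i).eq, ← mul_assoc z⁻¹,
        ← Subgroup.mem_center_iff.1 (inv_mem hz) x]
      group
    rw [hc] at hxy'
    have h2 := pow_injOn_Iio_orderOf (x := x) (Set.mem_Iio.2 (by omega))
      (Set.mem_Iio.2 (by omega)) ((pow_one x).trans hxy')
    omega
  have hzeq : z = x ^ 2 ^ (n - 1) := eq_pow_of_involution (by omega) hx hzx hz2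
  -- the quotient
  set Z := Subgroup.zpowers z with hZ
  have hZc : Z ≤ Subgroup.center G := Subgroup.zpowers_le.2 hz
  haveI : Z.Normal := ⟨fun a ha g => by
    rw [Subgroup.mem_center_iff.1 (hZc ha) g, mul_inv_cancel_right]; exact ha⟩
  have hZp : IsPGroup 2 Z := IsPGroup.of_card (n := 1) (by rw [Nat.card_zpowers, hz2, pow_one])
  letI := Fintype.ofFinite (G ⧸ Z)
  set π := QuotientGroup.mk' Z with hπ
  have hker : ∀ g : G, π g ∈ Subgroup.zpowers (π x) → g ∈ Subgroup.zpowers x := by
    intro g hg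
    obtain ⟨i, hi⟩ := Subgroup.mem_zpowers_iff.1 hg
    rw [← map_zpow, hπ, QuotientGroup.mk'_eq_mk'] at hi
    obtain ⟨c, hc, rfl⟩ := hi
    exact mul_mem (zpow_mem (Subgroup.mem_zpowers x) i) (Subgroup.zpowers_le.2 hzx hc)
  have hπz : π z = 1 := (QuotientGroup.eq_one_iff z).2 (Subgroup.mem_zpowers z)
  have hox : orderOf (π x) = 2 ^ (n - 1) := by
    refine Nat.dvd_antisymm (orderOf_dvd_of_pow_eq_one (by rw [← map_pow, ← hzeq, hπz])) ?_
    have hk : π (x ^ orderOf (π x)) = 1 := by rw [map_pow, pow_orderOf_eq_one]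
    obtain ⟨c, hc⟩ := Subgroup.mem_zpowers_iff.1 ((QuotientGroup.eq_one_iff _).1 hk)
    have h2 : x ^ (2 * orderOf (π x)) = 1 := by
      rw [mul_comm, pow_mul, ← hc, ← zpow_natCast (z ^ c), ← zpow_mul, mul_comm, zpow_mul,
        zpow_natCast, ← hz2, pow_orderOf_eq_one, one_zpow]
    rw [← orderOf_dvd_iff_pow_eq_one, hx, hnn] at h2
    exact (Nat.mul_dvd_mul_iff_left two_pos).1 h2
  have hyy : y * y = 1 := by rw [← pow_two, ← hy, pow_orderOf_eq_one]
  have hconjx : π y * π x * (π y)⁻¹ = (π x)⁻¹ := by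
    rw [← map_inv, ← map_mul, ← map_mul, hxy', map_pow, eq_inv_iff_mul_eq_one, ← pow_succ,
      Nat.sub_add_cancel (by omega), ← hox, pow_orderOf_eq_one]
  have hnm : ∀ g : G, π (g * y * g⁻¹) ∉ Subgroup.zpowers (π x) := by
    intro g hg
    have ho : orderOf (g * y * g⁻¹) = 2 := by rw [← MulAut.conj_apply, MulEquiv.orderOf_eq, hy]
    have hzy : g * y * g⁻¹ = z :=
      (eq_pow_of_involution (by omega) hx (hker _ hg) ho).trans hzeq.symm
    have hyz : y = z := mul_left_cancel ((mul_inv_eq_iff_eq_mul.1 hzy).trans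
      (Subgroup.mem_center_iff.1 hz g).symm)
    exact hyx (hyz ▸ hzx)
  set Dbar := D.map π with hDbar
  have hxb : π x ∈ Dbar := ⟨x, hxD, rfl⟩
  have hyb : π y ∈ Dbar := ⟨y, hyD, rfl⟩
  have hym : (⟨π y, hyb⟩ : Dbar) ∉ Subgroup.zpowers (⟨π x, hxb⟩ : Dbar) := by
    intro h
    obtain ⟨i, hi⟩ := Subgroup.mem_zpowers_iff.1 h
    refine hnm 1 ?_
    rw [one_mul, inv_one, mul_one]
    exact ⟨i, by simpa using congrArg Subtype.val hi⟩
  have hcardb : Nat.card Dbar = 2 * 2 ^ (n - 1) := by
    have h1 := (π.comp D.subtype).ker.card_mul_index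
    rw [Subgroup.index_ker, MonoidHom.range_comp, Subgroup.range_subtype, ← hDbar,
      show (π.comp D.subtype).ker = Z.subgroupOf D from by
        rw [← MonoidHom.comap_ker, hπ, QuotientGroup.ker_mk']; rfl,
      Nat.card_congr (Subgroup.subgroupOfEquivOfLe (Subgroup.zpowers_le.2 hzD)).toEquiv,
      Nat.card_zpowers, hz2, hcard, pow_succ, hnn] at h1
    omega
  set a : Dbar := ⟨π x, hxb⟩ with ha
  set c : Dbar := ⟨π y, hyb⟩ with hc
  have hm2 : 2 ^ (n - 1) = 2 * 2 ^ (n - 2) := by rw [← pow_succ']; congr 1; omega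
  have hao : orderOf a = 2 * 2 ^ (n - 2) := by rw [ha, Subgroup.orderOf_mk, hox, hm2]
  have hapow : a ^ (2 * 2 ^ (n - 2)) = 1 := hao ▸ pow_orderOf_eq_one a
  have hcc : c * c = 1 := Subtype.ext (by
    show π y * π y = 1
    rw [← map_mul, hyy, map_one])
  have hca : c * a * c⁻¹ = a⁻¹ := Subtype.ext hconjx
  haveI : NeZero (2 * 2 ^ (n - 2)) := ⟨by positivity⟩
  have hbij : Function.Bijective (TwoGroups.dihedralLift a c hapow hcc hca) :=
    (Nat.bijective_iff_injective_and_card _).mpr
      ⟨TwoGroups.dihedralLift_injective hapow hcc hca hao hym,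
        by rw [DihedralGroup.nat_card, hcardb, hm2]⟩
  let e : Dbar ≃* DihedralGroup (2 * 2 ^ (n - 2)) := (MulEquiv.ofBijective _ hbij).symm
  have her : ((e.symm (DihedralGroup.r 1) : Dbar) : G ⧸ Z) = π x := by
    have h1 : e.symm (DihedralGroup.r 1) = a := by
      show TwoGroups.dihedralLift a c hapow hcc hca (DihedralGroup.r 1) = a
      have := TwoGroups.dihedralLift_r a c hapow hcc hca 1
      rwa [Int.cast_one, zpow_one] at this
    rw [h1]
  obtain ⟨Bbar, hBbar, hlift, hdefs⟩ := BlockCover.exists_block_map_defectGroup (N := Z) hM hZp hB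
  have hBq : Bbar = BlockCount.quotBlock Z B := by
    obtain ⟨φ, hφ⟩ := Block.pBlock_nonempty hBbar
    refine Block.pBlock_eq_of_mem hBbar (BlockCount.isPBlock_quotBlock hM hZc hZp hB) hφ ?_
    exact hlift φ hφ _ (funext fun g => Char.irrEquivQuotient_apply Z φ g)
  have hDef : IsDefectGroup 2 M Bbar Dbar := (hdefs _).2 ⟨D, hD, rfl⟩
  have hle : blockRank 2 B ≤ blockRank 2 Bbar := by
    subst hBq
    exact (Submodule.finrank_mono (BlockCount.span_le_infl hM hZc hZp hB)).trans
      (finrank_infl_le _)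
  refine hle.trans (blockRank_le_two_of_notConj hM hBbar hDef
    (show 2 ≤ 2 ^ (n - 2) from le_self_pow one_le_two (by omega)) e hyb ?_ ?_)
  · refine orderOf_eq_prime (by rw [pow_two, ← map_mul, hyy, map_one]) fun h => hnm 1 ?_
    rw [one_mul, inv_one, mul_one, h]
    exact one_mem _
  · intro g
    obtain ⟨g, rfl⟩ := QuotientGroup.mk'_surjective Z g
    rw [her, ← map_inv, ← map_mul, ← map_mul]
    exact hnm g

end Cfsg.Agent.DihSolv
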